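import Cfsg.Agent.Lib.U4Two.Tables
import Cfsg.Agent.Lib.Recog.PSpFourThreeSpectrum

/-! Kernel checks for the `PSU(4,2) ≅ PSp(4,3)` tables. -/

set_option autoImplicit false
set_option maxRecDepth 100000
set_option Elab.async false

namespace Cfsg.Agent.U4Two

open Cfsg.Agent.Recog.PSpFourThreeSpectrum (toJ)

instance instFintypeR4 : Fintype R4 := Fintype.ofEquiv _ (QuadraticAlgebra.equivProd (1 : ZMod 2) 1).symm

instance : Fact (∀ r : ZMod 2, r ^ 2 ≠ (1 : ZMod 2) + 1 * r) := ⟨by decide⟩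

theorem card_R4 : Fintype.card R4 = 4 := by decide +kernel

def wJ (i : Fin 40) : Fin 2 ⊕ Fin 2 → ZMod 3 := fun k => wPt i (finSumFinEquiv k)

def tau (v : Fin 4 → R4) (c : R4) : Matrix (Fin 4) (Fin 4) R4 :=
  1 + c • Matrix.vecMulVec v fun j => v j * v j

/-! The tables are checked in a numeric encoding of the field with four elements. -/

def encR (x : R4) : ℕ := x.re.val + 2 * x.im.val

def mulN (a b : ℕ) : ℕ :=
  (a % 2 * (b % 2) + a / 2 * (b / 2)) % 2 + 2 * ((a % 2 * (b / 2) + a / 2 * (b % 2) + a / 2 * (b / 2)) % 2)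

def addN (a b : ℕ) : ℕ := (a % 2 + b % 2) % 2 + 2 * ((a / 2 + b / 2) % 2)

theorem encR_inj : ∀ x y : R4, encR x = encR y → x = y := by decide +kernel
theorem encR_lt : ∀ x : R4, encR x < 4 := by decide +kernel
theorem encR_mul : ∀ x y : R4, encR (x * y) = mulN (encR x) (encR y) := by decide +kernel
theorem encR_add : ∀ x y : R4, encR (x + y) = addN (encR x) (encR y) := by decide +kernel
theorem encR_surj : ∀ n : Fin 4, ∃ x : R4, encR x = n := by decide +kernel
theorem encR_one : encR 1 = 1 := by decide +kernel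
theorem encR_zero : encR 0 = 0 := by decide +kernel

def mvN (t : Fin 45) (i : Fin 40) (r : Fin 4) : ℕ :=
  addN (addN (addN (mulN (encR (tMat t r 0)) (encR (uPt i 0))) (mulN (encR (tMat t r 1)) (encR (uPt i 1))))
    (mulN (encR (tMat t r 2)) (encR (uPt i 2)))) (mulN (encR (tMat t r 3)) (encR (uPt i 3)))

theorem check_tN : ∀ (t : Fin 45) (i : Fin 40), ([1, 2, 3].any fun c =>
    (List.finRange 4).all fun r => mvN t i r == mulN c (encR (uPt (perm t i) r))) = true := by decide +kernel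

theorem check_t (t : Fin 45) (i : Fin 40) :
    ∃ c : R4, c ≠ 0 ∧ (tMat t).mulVec (uPt i) = c • uPt (perm t i) := by
  obtain ⟨c, hc, h⟩ := List.any_eq_true.1 (check_tN t i)
  have hc' : c < 4 ∧ c ≠ 0 := by simp at hc; omega
  obtain ⟨x, hx⟩ := encR_surj ⟨c, hc'.1⟩
  refine ⟨x, fun e => hc'.2 ?_, funext fun r => encR_inj _ _ ?_⟩
  · rw [e, encR_zero] at hx
    exact hx.symm
  · have h1 : mvN t i r = mulN c (encR (uPt (perm t i) r)) := by
      simpa using List.all_eq_true.1 h r (List.mem_finRange r)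
    rw [show encR ((x • uPt (perm t i)) r) = mulN (encR x) (encR (uPt (perm t i) r)) from encR_mul _ _, hx,
      ← h1]
    simp [Matrix.mulVec, dotProduct, Fin.sum_univ_four, encR_add, encR_mul, mvN]

def mvS (t : Fin 45) (i : Fin 40) (r : Fin 4) : ℕ :=
  ((sMat t r 0).val * (wPt i 0).val + (sMat t r 1).val * (wPt i 1).val + (sMat t r 2).val * (wPt i 2).val +
    (sMat t r 3).val * (wPt i 3).val) % 3

theorem check_sN : ∀ (t : Fin 45) (i : Fin 40), ([1, 2].any fun d =>
    (List.finRange 4).all fun r => mvS t i r == d * (wPt (perm t i) r).val % 3) = true := by decide +kernel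

theorem check_s (t : Fin 45) (i : Fin 40) :
    ∃ d : ZMod 3, d ≠ 0 ∧ (toJ (sMat t)).mulVec (wJ i) = d • wJ (perm t i) := by
  obtain ⟨d, hd, h⟩ := List.any_eq_true.1 (check_sN t i)
  simp at hd
  refine ⟨(d : ZMod 3), by rcases hd with rfl | rfl <;> decide, funext fun k => ?_⟩
  have h1 : mvS t i (finSumFinEquiv k) = d * (wPt (perm t i) (finSumFinEquiv k)).val % 3 := by
    simpa using List.all_eq_true.1 h (finSumFinEquiv k) (List.mem_finRange _)
  show (toJ (sMat t)).mulVec (wJ i) k = (d : ZMod 3) * wPt (perm t i) (finSumFinEquiv k)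
  have h2 := congrArg (Nat.cast : ℕ → ZMod 3) h1
  simp only [mvS, ZMod.natCast_mod, Nat.cast_add, Nat.cast_mul, ZMod.natCast_val, ZMod.cast_id', id] at h2
  rw [← h2]
  show ∑ l : Fin 2 ⊕ Fin 2, sMat t (finSumFinEquiv k) (finSumFinEquiv l) * wPt i (finSumFinEquiv l) = _
  exact (Equiv.sum_comp (finSumFinEquiv : Fin 2 ⊕ Fin 2 ≃ Fin 4) (fun l : Fin 4 => sMat t (finSumFinEquiv k) l * wPt i l)).trans
    (Fin.sum_univ_four _)

theorem check_sp : ∀ t : Fin 45, toJ (sMat t) * Matrix.J (Fin 2) (ZMod 3) * (toJ (sMat t)).transpose =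
    Matrix.J (Fin 2) (ZMod 3) := by decide +kernel

theorem check_invol : ∀ (t : Fin 45) (i : Fin 40), perm t (perm t i) = i := by decide +kernel

theorem check_perm (t : Fin 45) (i j : Fin 40) (h : perm t i = perm t j) : i = j := by
  rw [← check_invol t i, h, check_invol]

def dN (i j : Fin 4) : ℕ := if i = j then 1 else 0

def tauN (v : Fin 4 → ℕ) (c : ℕ) (i j : Fin 4) : ℕ := addN (dN i j) (mulN c (mulN (v i) (mulN (v j) (v j))))

def hN (v : Fin 4 → ℕ) : ℕ :=
  addN (addN (addN (mulN (v 0) (mulN (v 0) (v 0))) (mulN (v 1) (mulN (v 1) (v 1))))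
    (mulN (v 2) (mulN (v 2) (v 2)))) (mulN (v 3) (mulN (v 3) (v 3)))

def uniN (v : Fin 4 → ℕ) (c : ℕ) (i j : Fin 4) : ℕ :=
  addN (addN (addN (mulN (tauN v c 0 i) (mulN (tauN v c 0 j) (tauN v c 0 j)))
      (mulN (tauN v c 1 i) (mulN (tauN v c 1 j) (tauN v c 1 j))))
    (mulN (tauN v c 2 i) (mulN (tauN v c 2 j) (tauN v c 2 j))))
    (mulN (tauN v c 3 i) (mulN (tauN v c 3 j) (tauN v c 3 j)))

theorem check_tauN : ∀ a b c d e : Fin 4,
    (hN ![a.val, b.val, c.val, d.val] != 0 ||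
      !((List.finRange 4).all fun i => (List.finRange 4).all fun j =>
          uniN ![a.val, b.val, c.val, d.val] e i j == dN i j) ||
      ((List.finRange 4).all fun i => (List.finRange 4).all fun j =>
          tauN ![a.val, b.val, c.val, d.val] e i j == dN i j) ||
      ((List.finRange 45).any fun t => (List.finRange 4).all fun i => (List.finRange 4).all fun j =>
          tauN ![a.val, b.val, c.val, d.val] e i j == encR (tMat t i j))) = true := by decide +kernel

theorem check_tau (v : Fin 4 → R4) (c : R4)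
    (hu : (tau v c).transpose * (tau v c).map (fun x => x * x) = 1) (hv : (∑ k, v k * (v k * v k)) = 0) :
    tau v c = 1 ∨ ∃ t, tau v c = tMat t := by
  have hδ : ∀ i j : Fin 4, encR ((1 : Matrix (Fin 4) (Fin 4) R4) i j) = dN i j := fun i j => by
    rcases eq_or_ne i j with rfl | h
    · rw [Matrix.one_apply_eq, encR_one, dN, if_pos rfl]
    · rw [Matrix.one_apply_ne h, encR_zero, dN, if_neg h]
  obtain ⟨w, hw⟩ : ∃ w : Fin 4 → ℕ,
      w = ![(⟨encR (v 0), encR_lt _⟩ : Fin 4).val, (⟨encR (v 1), encR_lt _⟩ : Fin 4).val,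
        (⟨encR (v 2), encR_lt _⟩ : Fin 4).val, (⟨encR (v 3), encR_lt _⟩ : Fin 4).val] := ⟨_, rfl⟩
  have hwk : ∀ k, w k = encR (v k) := fun k => by subst hw; fin_cases k <;> rfl
  have htau : ∀ i j, encR (tau v c i j) = tauN w (encR c) i j := fun i j => by
    simp [tau, tauN, Matrix.vecMulVec_apply, encR_add, encR_mul, hδ, hwk]
  have h := check_tauN ⟨_, encR_lt (v 0)⟩ ⟨_, encR_lt (v 1)⟩ ⟨_, encR_lt (v 2)⟩ ⟨_, encR_lt (v 3)⟩
    ⟨_, encR_lt c⟩
  rw [← hw] at h
  simp only [Bool.or_eq_true, bne_iff_ne, ne_eq, Bool.not_eq_true', List.any_eq_true, List.all_eq_true,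
    beq_iff_eq, List.mem_finRange, true_and, forall_const] at h
  rcases h with ((h | h) | h) | ⟨t, h⟩
  · refine absurd ?_ h
    have := congrArg encR hv
    simpa [Fin.sum_univ_four, encR_add, encR_mul, encR_zero, hN, hwk] using this
  · refine absurd h (Bool.not_eq_false _ ▸ ?_)
    simp only [List.all_eq_true, beq_iff_eq]
    intro i _ j _
    have := congrArg encR (congrFun (congrFun hu i) j)
    rw [hδ] at this
    simpa [Matrix.mul_apply, Fin.sum_univ_four, encR_add, encR_mul, uniN, htau] using this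
  · exact Or.inl (Matrix.ext fun i j => encR_inj _ _ ((htau i j).trans ((h i j).trans (hδ i j).symm)))
  · exact Or.inr ⟨t, Matrix.ext fun i j => encR_inj _ _ ((htau i j).trans (h i j))⟩

theorem uPt_inj : ∀ (i j : Fin 40) (c : R4), uPt i = c • uPt j → i = j := by decide +kernel

theorem wJ_inj : ∀ (i j : Fin 40) (c : ZMod 3), wJ i = c • wJ j → i = j := by decide +kernel

theorem uPt_frame : uPt 12 = Pi.single 0 1 ∧ uPt 2 = Pi.single 1 1 ∧ uPt 1 = Pi.single 2 1 ∧ uPt 0 = Pi.single 3 1 ∧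
    uPt 32 = ![1, 1, 1, 0] ∧ uPt 7 = ![0, 1, 1, 1] := by decide +kernel

theorem wJ_frame : wJ 31 = Pi.single (Sum.inl 0) 1 ∧ wJ 28 = Pi.single (Sum.inl 1) 1 ∧ wJ 1 = Pi.single (Sum.inr 0) 1 ∧
    wJ 0 = Pi.single (Sum.inr 1) 1 ∧ wJ 7 = fun _ => 1 := by decide +kernel

end Cfsg.Agent.U4Two
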