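import Cfsg.Agent.Lib.U4Two.Checks
import Cfsg.Agent.Lib.LinearGroups.UnitaryOrder
import Cfsg.Agent.Lib.Forms.UnitaryFin
import Cfsg.Agent.Lib.Forms.SpOrder
import Cfsg.Agent.Lib.AutPSp.Centre

/-! `PSU(4,2) ≅ PSp(4,3)`. -/

set_option autoImplicit false

namespace Cfsg.Agent.U4Two

open Matrix
open Cfsg.Agent.Recog.PSpFourThreeSpectrum (toJ neg_central)

abbrev Z3 := ZMod 3
abbrev G3 := Matrix.symplecticGroup (Fin 2) Z3
abbrev M3 := Matrix (Fin 2 ⊕ Fin 2) (Fin 2 ⊕ Fin 2) Z3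

variable {F : Type*} [Field F] (e : R4 ≃+* F)

def uF (i : Fin 40) : Fin 4 → F := fun k => e (uPt i k)

theorem uF_inj (i j : Fin 40) (c : F) (h : uF e i = c • uF e j) : i = j := by
  refine uPt_inj i j (e.symm c) (funext fun k => e.injective ?_)
  have := congrFun h k
  simpa [uF] using this

theorem map_mulVec_uPt (M : Matrix (Fin 4) (Fin 4) R4) (i : Fin 40) :
    (M.map e).mulVec (uF e i) = fun k => e (M.mulVec (uPt i) k) :=
  funext fun k => ((e : R4 →+* F).map_mulVec M (uPt i) k).symm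

/-- `g` and `A` induce the same permutation of the 40 points. -/
def Rel (g : Matrix (Fin 4) (Fin 4) F) (A : M3) : Prop :=
  ∃ π : Equiv.Perm (Fin 40), ∀ i, (∃ c : F, c ≠ 0 ∧ g.mulVec (uF e i) = c • uF e (π i)) ∧
    ∃ d : Z3, d ≠ 0 ∧ A.mulVec (wJ i) = d • wJ (π i)

theorem rel_one : Rel e 1 1 :=
  ⟨1, fun i => ⟨⟨1, one_ne_zero, by simp⟩, ⟨1, one_ne_zero, by simp⟩⟩⟩

theorem rel_mul {g h : Matrix (Fin 4) (Fin 4) F} {A B : M3} (h1 : Rel e g A) (h2 : Rel e h B) :
    Rel e (g * h) (A * B) := by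
  obtain ⟨π, hπ⟩ := h1
  obtain ⟨ρ, hρ⟩ := h2
  refine ⟨π * ρ, fun i => ?_⟩
  obtain ⟨⟨c, hc, hc'⟩, d, hd, hd'⟩ := hπ (ρ i)
  obtain ⟨⟨c₂, hc₂, hc₂'⟩, d₂, hd₂, hd₂'⟩ := hρ i
  refine ⟨⟨c₂ * c, mul_ne_zero hc₂ hc, ?_⟩, ⟨d₂ * d, mul_ne_zero hd₂ hd, ?_⟩⟩
  · rw [← Matrix.mulVec_mulVec, hc₂', Matrix.mulVec_smul, hc', smul_smul]; rfl
  · rw [← Matrix.mulVec_mulVec, hd₂', Matrix.mulVec_smul, hd', smul_smul]; rfl

theorem rel_inv {g g' : Matrix (Fin 4) (Fin 4) F} {A A' : M3} (hg : g' * g = 1) (hA : A' * A = 1)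
    (h1 : Rel e g A) : Rel e g' A' := by
  obtain ⟨π, hπ⟩ := h1
  refine ⟨π.symm, fun i => ?_⟩
  obtain ⟨⟨c, hc, hc'⟩, d, hd, hd'⟩ := hπ (π.symm i)
  rw [Equiv.apply_symm_apply] at hc' hd'
  refine ⟨⟨c⁻¹, inv_ne_zero hc, ?_⟩, ⟨d⁻¹, inv_ne_zero hd, ?_⟩⟩
  · have := congrArg g'.mulVec hc'
    rw [Matrix.mulVec_mulVec, hg, Matrix.one_mulVec, Matrix.mulVec_smul] at this
    rw [this, smul_smul, inv_mul_cancel₀ hc, one_smul]
  · have := congrArg A'.mulVec hd'
    rw [Matrix.mulVec_mulVec, hA, Matrix.one_mulVec, Matrix.mulVec_smul] at this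
    rw [this, smul_smul, inv_mul_cancel₀ hd, one_smul]

theorem eq_pm_one {A : M3} (h : ∀ i, ∃ d : Z3, A.mulVec (wJ i) = d • wJ i) (hA : A * A.adjugate ≠ 0) :
    A = 1 ∨ A = -1 := by
  obtain ⟨f0, f1, f2, f3, f4⟩ := wJ_frame
  obtain ⟨d, hd⟩ := h 7
  have hcol : ∀ k, ∀ l, A l k = if l = k then d else 0 := by
    obtain ⟨a, ha⟩ := h 31; obtain ⟨b, hb⟩ := h 28; obtain ⟨c, hc⟩ := h 1; obtain ⟨x, hx⟩ := h 0
    rw [f0] at ha; rw [f1] at hb; rw [f2] at hc; rw [f3] at hx; rw [f4] at hd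
    rw [Matrix.mulVec_single_one] at ha hb hc hx
    have ea := fun l => congrFun ha l
    have eb := fun l => congrFun hb l
    have ec := fun l => congrFun hc l
    have ex := fun l => congrFun hx l
    simp only [Matrix.col_apply, Pi.smul_apply, smul_eq_mul] at ea eb ec ex
    have hs := fun l => congrFun hd l
    simp only [Matrix.mulVec, dotProduct, Fintype.sum_sum_type, Fin.sum_univ_two, Pi.smul_apply, smul_eq_mul,
      mul_one, ea, eb, ec, ex] at hs
    intro k l
    have h0 := hs (Sum.inl 0); have h1 := hs (Sum.inl 1); have h2 := hs (Sum.inr 0); have h3 := hs (Sum.inr 1)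
    simp at h0 h1 h2 h3
    rcases k with k | k <;> fin_cases k <;> rcases l with l | l <;> fin_cases l <;> simp_all [Pi.single_apply]
  have hA' : A = d • (1 : M3) := by ext l k; simp [hcol k l, Matrix.one_apply]
  rcases (show ∀ x : Z3, x = 0 ∨ x = 1 ∨ x = -1 by decide) d with rfl | rfl | rfl
  · exact absurd (by rw [hA', zero_smul, zero_mul]) hA
  · exact Or.inl (by rw [hA', one_smul])
  · exact Or.inr (by rw [hA', neg_one_smul])

theorem eq_scalar {g : Matrix (Fin 4) (Fin 4) F} (h : ∀ i, ∃ c : F, g.mulVec (uF e i) = c • uF e i) :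
    ∃ c : F, g = c • (1 : Matrix (Fin 4) (Fin 4) F) := by
  have hs : ∀ i k, uPt i = Pi.single k 1 → uF e i = Pi.single k 1 := by
    intro i k hi
    funext l
    rw [uF, hi]
    rcases eq_or_ne l k with rfl | hl <;> simp [*]
  obtain ⟨f0, f1, f2, f3, f4, f5⟩ := uPt_frame
  have g4 : uF e 32 = ![1, 1, 1, 0] := by funext l; rw [uF, f4]; fin_cases l <;> simp
  have g5 : uF e 7 = ![0, 1, 1, 1] := by funext l; rw [uF, f5]; fin_cases l <;> simp
  obtain ⟨a, ha⟩ := h 12; obtain ⟨b, hb⟩ := h 2; obtain ⟨c, hc⟩ := h 1; obtain ⟨x, hx⟩ := h 0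
  obtain ⟨s, hs4⟩ := h 32; obtain ⟨t, ht5⟩ := h 7
  rw [hs _ _ f0, Matrix.mulVec_single_one] at ha
  rw [hs _ _ f1, Matrix.mulVec_single_one] at hb
  rw [hs _ _ f2, Matrix.mulVec_single_one] at hc
  rw [hs _ _ f3, Matrix.mulVec_single_one] at hx
  have ea := fun l => congrFun ha l
  have eb := fun l => congrFun hb l
  have ec := fun l => congrFun hc l
  have ex := fun l => congrFun hx l
  simp only [Matrix.col_apply, Pi.smul_apply, smul_eq_mul] at ea eb ec ex
  rw [g4] at hs4; rw [g5] at ht5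
  have e4 := fun l => congrFun hs4 l
  have e5 := fun l => congrFun ht5 l
  simp only [Matrix.mulVec, dotProduct, Fin.sum_univ_four, ea, eb, ec, ex, Pi.smul_apply, smul_eq_mul] at e4 e5
  have h0 := e4 0; have h1 := e4 1; have h2 := e4 2; have h3 := e5 1; have h4 := e5 3
  simp at h0 h1 h2 h3 h4
  refine ⟨a, ?_⟩
  ext l k
  fin_cases k <;> fin_cases l <;> simp_all [Pi.single_apply]

section main

variable [Fintype F] (hF : Fintype.card F = 4)
include hF

theorem frob : ∃ f : F →+* F, ∀ x, f x = x ^ 2 := by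
  obtain ⟨σ, hσ, -⟩ := FormsLib.exists_qhom (F := F) (q := 2) (by rw [hF]; norm_num)
  exact ⟨σ, hσ⟩

theorem exists_rel (g : Cfsg.SU 4 F 2) :
    ∃ A : G3, Rel e (g : Matrix.SpecialLinearGroup (Fin 4) F).1 (A : M3) := by
  have hg : g ∈ Subgroup.closure _ :=
    (FormsLib.closure_unitaryTransvection (F := F) (q := 2) (by rw [hF]; norm_num) 4 (by norm_num)).symm ▸
      Subgroup.mem_top g
  induction hg using Subgroup.closure_induction with
  | mem T hT =>
    obtain ⟨v, c, hv, hTv⟩ := hT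
    obtain ⟨f, hf⟩ := frob hF
    set v' : Fin 4 → R4 := fun k => e.symm (v k)
    set c' := e.symm c
    have htau : (T : Matrix.SpecialLinearGroup (Fin 4) F).1 = (tau v' c').map e := by
      rw [hTv, Cfsg.unitaryTransvection, tau]
      ext i j
      simp [Matrix.one_apply, Matrix.vecMulVec_apply, v', c', pow_two, apply_ite e]
    have hu : (T : Matrix.SpecialLinearGroup (Fin 4) F).1.transpose *
        (T : Matrix.SpecialLinearGroup (Fin 4) F).1.map f = 1 := by
      ext i j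
      have := T.2 (Pi.single i 1) (Pi.single j 1)
      simp only [Cfsg.hermForm, Cfsg.slToMat, MonoidHom.coe_mk, OneHom.coe_mk, Matrix.mulVec_single_one,
        Matrix.col_apply] at this
      rw [Matrix.mul_apply]
      simp only [Matrix.transpose_apply, Matrix.map_apply, hf]
      refine this.trans ?_
      rw [Finset.sum_eq_single i (fun k _ hk => by simp [hk]) (fun h => absurd (Finset.mem_univ i) h)]
      rcases eq_or_ne i j with rfl | hk
      · simp
      · simp [Matrix.one_apply_ne hk, hk]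
    have hu' : (tau v' c').transpose * (tau v' c').map (fun x => x * x) = 1 := by
      refine Matrix.map_injective e.injective ?_
      have h1 : ((tau v' c').map fun x => x * x).map e = ((tau v' c').map e).map f := by
        ext i j; simp [hf, pow_two]
      show ((tau v' c').transpose * (tau v' c').map (fun x => x * x)).map (e : R4 →+* F) =
        (1 : Matrix (Fin 4) (Fin 4) R4).map (e : R4 →+* F)
      rw [Matrix.map_mul, RingHom.coe_coe, h1, ← htau, Matrix.transpose_map, ← htau, hu,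
        Matrix.map_one _ (map_zero e) (map_one e)]
    have hv' : (∑ k, v' k * (v' k * v' k)) = 0 := by
      refine e.injective ?_
      rw [map_sum, map_zero]
      refine Eq.trans ?_ hv
      exact Finset.sum_congr rfl fun k _ => by simp [v', pow_two]
    rcases check_tau v' c' hu' hv' with h | ⟨t, h⟩
    · exact ⟨1, by rw [htau, h, Matrix.map_one _ (map_zero e) (map_one e)]; exact rel_one e⟩
    · refine ⟨⟨toJ (sMat t), SymplecticGroup.mem_iff.2 (check_sp t)⟩,
        Equiv.ofBijective (perm t) (Finite.injective_iff_bijective.1 (check_perm t)), fun i => ⟨?_, check_s t i⟩⟩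
      obtain ⟨a, ha, ha'⟩ := check_t t i
      refine ⟨e a, (map_ne_zero_iff e e.injective).2 ha, ?_⟩
      rw [htau, h, map_mulVec_uPt, ha']
      funext k
      simp [uF]
  | one => exact ⟨1, rel_one e⟩
  | mul x y _ _ hx hy =>
    obtain ⟨A, hA⟩ := hx
    obtain ⟨B, hB⟩ := hy
    exact ⟨A * B, rel_mul e hA hB⟩
  | inv x _ hx =>
    obtain ⟨A, hA⟩ := hx
    exact ⟨A⁻¹, rel_inv e (congrArg (fun z : Cfsg.SU 4 F 2 => (z : Matrix.SpecialLinearGroup (Fin 4) F).1) (inv_mul_cancel x))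
      (congrArg (fun z : G3 => (z : M3)) (inv_mul_cancel A)) hA⟩

theorem rel_unique {g : Matrix (Fin 4) (Fin 4) F} {A B : G3} (h1 : Rel e g A) (h2 : Rel e g B) :
    QuotientGroup.mk' (Subgroup.center G3) A = QuotientGroup.mk' (Subgroup.center G3) B := by
  obtain ⟨π, hπ⟩ := h1
  obtain ⟨ρ, hρ⟩ := h2
  have hp : ∀ i, π i = ρ i := by
    intro i
    obtain ⟨⟨c, hc, hc'⟩, -⟩ := hπ i
    obtain ⟨⟨c₂, hc₂, hc₂'⟩, -⟩ := hρ i
    refine uF_inj e _ _ (c⁻¹ * c₂) ?_
    rw [← smul_smul, ← hc₂', hc', smul_smul, inv_mul_cancel₀ hc, one_smul]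
  rw [QuotientGroup.mk'_eq_mk']
  refine ⟨A⁻¹ * B, ?_, by group⟩
  have hfix : ∀ i, ∃ d : Z3, ((A⁻¹ * B : G3) : M3).mulVec (wJ i) = d • wJ i := by
    intro i
    obtain ⟨-, d, hd, hd'⟩ := hπ i
    obtain ⟨-, d₂, hd₂, hd₂'⟩ := hρ i
    refine ⟨d₂ * d⁻¹, ?_⟩
    have h3 : (B : M3).mulVec (wJ i) = (A : M3).mulVec ((d₂ * d⁻¹) • wJ i) := by
      rw [Matrix.mulVec_smul, hd', hd₂', ← hp, smul_smul, mul_assoc, inv_mul_cancel₀ hd, mul_one]
    rw [Submonoid.coe_mul, ← Matrix.mulVec_mulVec, h3, Matrix.mulVec_mulVec]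
    rw [show ((A⁻¹ : G3) : M3) * (A : M3) = 1 from congrArg (fun z : G3 => (z : M3)) (inv_mul_cancel A), Matrix.one_mulVec]
  have hne : ((A⁻¹ * B : G3) : M3) * ((A⁻¹ * B : G3) : M3).adjugate ≠ 0 := by
    rw [Matrix.mul_adjugate, SymplecticGroup.det_eq_one (A⁻¹ * B : G3).2, one_smul]
    exact one_ne_zero
  rcases eq_pm_one hfix hne with h | h
  · rw [show A⁻¹ * B = 1 from Subtype.ext h]; exact Subgroup.one_mem _
  · exact neg_central _ h

noncomputable def hom : Cfsg.SU 4 F 2 →* Cfsg.PSp 2 Z3 :=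
  MonoidHom.mk' (fun g => QuotientGroup.mk' (Subgroup.center G3) (exists_rel e hF g).choose) fun g h => by
    rw [← map_mul]
    exact rel_unique e hF (exists_rel e hF (g * h)).choose_spec
      (rel_mul e (exists_rel e hF g).choose_spec (exists_rel e hF h).choose_spec)

theorem center_SU_bot : Subgroup.center (Cfsg.SU 4 F 2) = ⊥ := by
  have h := UnitaryOrder.card_center_SU (q := 2) (F := F) (by rw [hF]; norm_num) 4 (by norm_num)
  exact Subgroup.eq_bot_of_card_eq _ (h.trans (by decide))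

theorem hom_injective : Function.Injective (hom e hF) := by
  rw [← MonoidHom.ker_eq_bot_iff, eq_bot_iff, ← center_SU_bot hF]
  intro g hg
  set A := (exists_rel e hF g).choose
  obtain ⟨π, hπ⟩ := (exists_rel e hF g).choose_spec
  have hA : A ∈ Subgroup.center G3 := (QuotientGroup.eq_one_iff _).1 hg
  have hid : ∀ i, π i = i := by
    intro i
    obtain ⟨-, d, hd, hd'⟩ := hπ i
    have hsc : (A : M3) = 1 ∨ (A : M3) = -1 := AutPSp.mem_center_iff.1 hA
    refine (wJ_inj i (π i) (if (A : M3) = 1 then d else -d) ?_).symm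
    rcases hsc with h | h
    · rw [if_pos h, ← hd', h, Matrix.one_mulVec]
    · rw [if_neg (by rw [h]; decide +kernel), neg_smul, ← hd', h, Matrix.neg_mulVec, Matrix.one_mulVec, neg_neg]
  obtain ⟨c, hc⟩ := eq_scalar e (g := (g : Matrix.SpecialLinearGroup (Fin 4) F).1) fun i => by
    obtain ⟨⟨c, hc, hc'⟩, -⟩ := hπ i
    exact ⟨c, by rw [hc', hid i]⟩
  refine Subgroup.mem_center_iff.2 fun y => Subtype.ext (Subtype.ext ?_)
  show (y : Matrix.SpecialLinearGroup (Fin 4) F).1 * (g : Matrix.SpecialLinearGroup (Fin 4) F).1 =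
    (g : Matrix.SpecialLinearGroup (Fin 4) F).1 * (y : Matrix.SpecialLinearGroup (Fin 4) F).1
  rw [hc, Matrix.mul_smul, mul_one, Matrix.smul_mul, one_mul]

include e in
theorem main : Nonempty (Cfsg.PSU 4 F 2 ≃* Cfsg.PSp 2 Z3) := by
  have hSU : Nat.card (Cfsg.SU 4 F 2) = 25920 := by
    have h := UnitaryOrder.card_SU (q := 2) (F := F) (by rw [hF]; norm_num) 4 (by norm_num)
    rw [UnitaryOrder.card_GU (by rw [hF]; norm_num)] at h
    norm_num [Finset.prod_range_succ, Nat.even_iff] at h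
    omega
  have hSp : Nat.card G3 = 51840 := by
    rw [FormsLib.card_symplecticGroup, ZMod.card]
    norm_num [Finset.prod_range_succ]
  have hc2 : 2 ≤ Nat.card (Subgroup.center G3) := by
    refine le_trans (by rw [Nat.card_eq_fintype_card]; rfl) (Nat.card_le_card_of_injective
      (![⟨1, Subgroup.one_mem _⟩, ⟨⟨-1, SymplecticGroup.neg_mem (one_mem _)⟩, neg_central _ rfl⟩] :
        Fin 2 → Subgroup.center G3) ?_)
    intro i j h
    have h' := congrArg (fun z : Subgroup.center G3 => ((z : G3) : M3)) h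
    revert h'
    fin_cases i <;> fin_cases j <;> simp <;> decide +kernel
  have hle : Nat.card (Cfsg.PSp 2 Z3) ≤ 25920 := by
    have := Subgroup.card_eq_card_quotient_mul_card_subgroup (Subgroup.center G3)
    rw [hSp] at this
    nlinarith
  have hb : Function.Bijective (hom e hF) :=
    (hom_injective e hF).bijective_of_nat_card_le (hle.trans hSU.ge)
  exact ⟨((QuotientGroup.quotientMulEquivOfEq (center_SU_bot hF)).trans QuotientGroup.quotientBot).trans
    (MulEquiv.ofBijective _ hb)⟩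

end main

/-- `PSp(4, 3)` over any field with three elements. -/
noncomputable def pspCongr {K : Type*} [Field K] (k : Z3 ≃+* K) : Cfsg.PSp 2 Z3 ≃* Cfsg.PSp 2 K :=
  let E : G3 ≃* Matrix.symplecticGroup (Fin 2) K :=
    { toFun := fun g => ⟨(g : M3).map k, Recog.PSpFourThreeSpectrum.map_mem (k : Z3 →+* K) g.2⟩
      invFun := fun g => ⟨(g : Matrix (Fin 2 ⊕ Fin 2) (Fin 2 ⊕ Fin 2) K).map k.symm,
        Recog.PSpFourThreeSpectrum.map_mem (k.symm : K →+* Z3) g.2⟩
      left_inv := fun g => by ext i j; simp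
      right_inv := fun g => by ext i j; simp
      map_mul' := fun g h => Subtype.ext (Matrix.map_mul (f := (k : Z3 →+* K))) }
  QuotientGroup.congr _ _ E (Recog.PSpFourThreeSpectrum.map_center E)

end Cfsg.Agent.U4Two
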