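import Mathlib

/-! Tables for `PSU(4,2) ≅ PSp(4,3)`: the 40 non-isotropic points of the unitary space over the field with four
elements, matched with the 40 points of the symplectic space over the field with three elements, and for each of the
45 transvections a symplectic matrix inducing the same permutation. -/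

set_option autoImplicit false
set_option maxRecDepth 100000

namespace Cfsg.Agent.U4Two

abbrev R4 := QuadraticAlgebra (ZMod 2) 1 1

def uPt : Fin 40 → Fin 4 → R4 :=
  ![![⟨0, 0⟩, ⟨0, 0⟩, ⟨0, 0⟩, ⟨1, 0⟩],
    ![⟨0, 0⟩, ⟨0, 0⟩, ⟨1, 0⟩, ⟨0, 0⟩],
    ![⟨0, 0⟩, ⟨1, 0⟩, ⟨0, 0⟩, ⟨0, 0⟩],
    ![⟨0, 0⟩, ⟨1, 0⟩, ⟨0, 1⟩, ⟨0, 1⟩],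
    ![⟨0, 0⟩, ⟨1, 0⟩, ⟨0, 1⟩, ⟨1, 0⟩],
    ![⟨0, 0⟩, ⟨1, 0⟩, ⟨0, 1⟩, ⟨1, 1⟩],
    ![⟨0, 0⟩, ⟨1, 0⟩, ⟨1, 0⟩, ⟨0, 1⟩],
    ![⟨0, 0⟩, ⟨1, 0⟩, ⟨1, 0⟩, ⟨1, 0⟩],
    ![⟨0, 0⟩, ⟨1, 0⟩, ⟨1, 0⟩, ⟨1, 1⟩],
    ![⟨0, 0⟩, ⟨1, 0⟩, ⟨1, 1⟩, ⟨0, 1⟩],
    ![⟨0, 0⟩, ⟨1, 0⟩, ⟨1, 1⟩, ⟨1, 0⟩],
    ![⟨0, 0⟩, ⟨1, 0⟩, ⟨1, 1⟩, ⟨1, 1⟩],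
    ![⟨1, 0⟩, ⟨0, 0⟩, ⟨0, 0⟩, ⟨0, 0⟩],
    ![⟨1, 0⟩, ⟨0, 0⟩, ⟨0, 1⟩, ⟨0, 1⟩],
    ![⟨1, 0⟩, ⟨0, 0⟩, ⟨0, 1⟩, ⟨1, 0⟩],
    ![⟨1, 0⟩, ⟨0, 0⟩, ⟨0, 1⟩, ⟨1, 1⟩],
    ![⟨1, 0⟩, ⟨0, 0⟩, ⟨1, 0⟩, ⟨0, 1⟩],
    ![⟨1, 0⟩, ⟨0, 0⟩, ⟨1, 0⟩, ⟨1, 0⟩],
    ![⟨1, 0⟩, ⟨0, 0⟩, ⟨1, 0⟩, ⟨1, 1⟩],
    ![⟨1, 0⟩, ⟨0, 0⟩, ⟨1, 1⟩, ⟨0, 1⟩],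
    ![⟨1, 0⟩, ⟨0, 0⟩, ⟨1, 1⟩, ⟨1, 0⟩],
    ![⟨1, 0⟩, ⟨0, 0⟩, ⟨1, 1⟩, ⟨1, 1⟩],
    ![⟨1, 0⟩, ⟨0, 1⟩, ⟨0, 0⟩, ⟨0, 1⟩],
    ![⟨1, 0⟩, ⟨0, 1⟩, ⟨0, 0⟩, ⟨1, 0⟩],
    ![⟨1, 0⟩, ⟨0, 1⟩, ⟨0, 0⟩, ⟨1, 1⟩],
    ![⟨1, 0⟩, ⟨0, 1⟩, ⟨0, 1⟩, ⟨0, 0⟩],
    ![⟨1, 0⟩, ⟨0, 1⟩, ⟨1, 0⟩, ⟨0, 0⟩],
    ![⟨1, 0⟩, ⟨0, 1⟩, ⟨1, 1⟩, ⟨0, 0⟩],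
    ![⟨1, 0⟩, ⟨1, 0⟩, ⟨0, 0⟩, ⟨0, 1⟩],
    ![⟨1, 0⟩, ⟨1, 0⟩, ⟨0, 0⟩, ⟨1, 0⟩],
    ![⟨1, 0⟩, ⟨1, 0⟩, ⟨0, 0⟩, ⟨1, 1⟩],
    ![⟨1, 0⟩, ⟨1, 0⟩, ⟨0, 1⟩, ⟨0, 0⟩],
    ![⟨1, 0⟩, ⟨1, 0⟩, ⟨1, 0⟩, ⟨0, 0⟩],
    ![⟨1, 0⟩, ⟨1, 0⟩, ⟨1, 1⟩, ⟨0, 0⟩],
    ![⟨1, 0⟩, ⟨1, 1⟩, ⟨0, 0⟩, ⟨0, 1⟩],
    ![⟨1, 0⟩, ⟨1, 1⟩, ⟨0, 0⟩, ⟨1, 0⟩],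
    ![⟨1, 0⟩, ⟨1, 1⟩, ⟨0, 0⟩, ⟨1, 1⟩],
    ![⟨1, 0⟩, ⟨1, 1⟩, ⟨0, 1⟩, ⟨0, 0⟩],
    ![⟨1, 0⟩, ⟨1, 1⟩, ⟨1, 0⟩, ⟨0, 0⟩],
    ![⟨1, 0⟩, ⟨1, 1⟩, ⟨1, 1⟩, ⟨0, 0⟩]]

def wPt : Fin 40 → Fin 4 → ZMod 3 :=
  ![![0, 0, 0, 1],
    ![0, 0, 1, 0],
    ![0, 0, 1, 1],
    ![1, 1, 0, 0],
    ![1, 1, 0, 1],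
    ![1, 1, 0, 2],
    ![1, 1, 1, 0],
    ![1, 1, 1, 1],
    ![1, 1, 1, 2],
    ![1, 1, 2, 0],
    ![1, 1, 2, 1],
    ![1, 1, 2, 2],
    ![0, 0, 1, 2],
    ![1, 2, 0, 0],
    ![1, 2, 0, 2],
    ![1, 2, 0, 1],
    ![1, 2, 1, 0],
    ![1, 2, 1, 2],
    ![1, 2, 1, 1],
    ![1, 2, 2, 0],
    ![1, 2, 2, 2],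
    ![1, 2, 2, 1],
    ![0, 1, 2, 2],
    ![0, 1, 2, 0],
    ![0, 1, 2, 1],
    ![1, 0, 2, 2],
    ![1, 0, 0, 2],
    ![1, 0, 1, 2],
    ![0, 1, 0, 0],
    ![0, 1, 0, 1],
    ![0, 1, 0, 2],
    ![1, 0, 0, 0],
    ![1, 0, 1, 0],
    ![1, 0, 2, 0],
    ![0, 1, 1, 1],
    ![0, 1, 1, 2],
    ![0, 1, 1, 0],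
    ![1, 0, 1, 1],
    ![1, 0, 2, 1],
    ![1, 0, 0, 1]]

def tMat : Fin 45 → Matrix (Fin 4) (Fin 4) R4 :=
  ![!![⟨1, 0⟩, ⟨0, 0⟩, ⟨0, 0⟩, ⟨0, 0⟩; ⟨0, 0⟩, ⟨1, 0⟩, ⟨0, 0⟩, ⟨0, 0⟩; ⟨0, 0⟩, ⟨0, 0⟩, ⟨0, 0⟩, ⟨1, 1⟩; ⟨0, 0⟩, ⟨0, 0⟩, ⟨0, 1⟩, ⟨0, 0⟩],
    !![⟨1, 0⟩, ⟨0, 0⟩, ⟨0, 0⟩, ⟨0, 0⟩; ⟨0, 0⟩, ⟨1, 0⟩, ⟨0, 0⟩, ⟨0, 0⟩; ⟨0, 0⟩, ⟨0, 0⟩, ⟨0, 0⟩, ⟨1, 0⟩; ⟨0, 0⟩, ⟨0, 0⟩, ⟨1, 0⟩, ⟨0, 0⟩],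
    !![⟨1, 0⟩, ⟨0, 0⟩, ⟨0, 0⟩, ⟨0, 0⟩; ⟨0, 0⟩, ⟨1, 0⟩, ⟨0, 0⟩, ⟨0, 0⟩; ⟨0, 0⟩, ⟨0, 0⟩, ⟨0, 0⟩, ⟨0, 1⟩; ⟨0, 0⟩, ⟨0, 0⟩, ⟨1, 1⟩, ⟨0, 0⟩],
    !![⟨1, 0⟩, ⟨0, 0⟩, ⟨0, 0⟩, ⟨0, 0⟩; ⟨0, 0⟩, ⟨0, 0⟩, ⟨0, 0⟩, ⟨1, 1⟩; ⟨0, 0⟩, ⟨0, 0⟩, ⟨1, 0⟩, ⟨0, 0⟩; ⟨0, 0⟩, ⟨0, 1⟩, ⟨0, 0⟩, ⟨0, 0⟩],
    !![⟨1, 0⟩, ⟨0, 0⟩, ⟨0, 0⟩, ⟨0, 0⟩; ⟨0, 0⟩, ⟨0, 0⟩, ⟨0, 0⟩, ⟨1, 0⟩; ⟨0, 0⟩, ⟨0, 0⟩, ⟨1, 0⟩, ⟨0, 0⟩; ⟨0, 0⟩, ⟨1, 0⟩, ⟨0, 0⟩, ⟨0, 0⟩],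
    !![⟨1, 0⟩, ⟨0, 0⟩, ⟨0, 0⟩, ⟨0, 0⟩; ⟨0, 0⟩, ⟨0, 0⟩, ⟨0, 0⟩, ⟨0, 1⟩; ⟨0, 0⟩, ⟨0, 0⟩, ⟨1, 0⟩, ⟨0, 0⟩; ⟨0, 0⟩, ⟨1, 1⟩, ⟨0, 0⟩, ⟨0, 0⟩],
    !![⟨1, 0⟩, ⟨0, 0⟩, ⟨0, 0⟩, ⟨0, 0⟩; ⟨0, 0⟩, ⟨0, 0⟩, ⟨1, 1⟩, ⟨0, 0⟩; ⟨0, 0⟩, ⟨0, 1⟩, ⟨0, 0⟩, ⟨0, 0⟩; ⟨0, 0⟩, ⟨0, 0⟩, ⟨0, 0⟩, ⟨1, 0⟩],
    !![⟨1, 0⟩, ⟨0, 0⟩, ⟨0, 0⟩, ⟨0, 0⟩; ⟨0, 0⟩, ⟨0, 0⟩, ⟨1, 0⟩, ⟨0, 0⟩; ⟨0, 0⟩, ⟨1, 0⟩, ⟨0, 0⟩, ⟨0, 0⟩; ⟨0, 0⟩, ⟨0, 0⟩, ⟨0, 0⟩, ⟨1, 0⟩],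
    !![⟨1, 0⟩, ⟨0, 0⟩, ⟨0, 0⟩, ⟨0, 0⟩; ⟨0, 0⟩, ⟨0, 0⟩, ⟨0, 1⟩, ⟨0, 0⟩; ⟨0, 0⟩, ⟨1, 1⟩, ⟨0, 0⟩, ⟨0, 0⟩; ⟨0, 0⟩, ⟨0, 0⟩, ⟨0, 0⟩, ⟨1, 0⟩],
    !![⟨0, 0⟩, ⟨0, 0⟩, ⟨0, 0⟩, ⟨1, 1⟩; ⟨0, 0⟩, ⟨1, 0⟩, ⟨0, 0⟩, ⟨0, 0⟩; ⟨0, 0⟩, ⟨0, 0⟩, ⟨1, 0⟩, ⟨0, 0⟩; ⟨0, 1⟩, ⟨0, 0⟩, ⟨0, 0⟩, ⟨0, 0⟩],
    !![⟨0, 0⟩, ⟨0, 0⟩, ⟨0, 0⟩, ⟨1, 0⟩; ⟨0, 0⟩, ⟨1, 0⟩, ⟨0, 0⟩, ⟨0, 0⟩; ⟨0, 0⟩, ⟨0, 0⟩, ⟨1, 0⟩, ⟨0, 0⟩; ⟨1, 0⟩, ⟨0, 0⟩, ⟨0, 0⟩, ⟨0, 0⟩],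
    !![⟨0, 0⟩, ⟨0, 0⟩, ⟨0, 0⟩, ⟨0, 1⟩; ⟨0, 0⟩, ⟨1, 0⟩, ⟨0, 0⟩, ⟨0, 0⟩; ⟨0, 0⟩, ⟨0, 0⟩, ⟨1, 0⟩, ⟨0, 0⟩; ⟨1, 1⟩, ⟨0, 0⟩, ⟨0, 0⟩, ⟨0, 0⟩],
    !![⟨0, 0⟩, ⟨0, 0⟩, ⟨1, 1⟩, ⟨0, 0⟩; ⟨0, 0⟩, ⟨1, 0⟩, ⟨0, 0⟩, ⟨0, 0⟩; ⟨0, 1⟩, ⟨0, 0⟩, ⟨0, 0⟩, ⟨0, 0⟩; ⟨0, 0⟩, ⟨0, 0⟩, ⟨0, 0⟩, ⟨1, 0⟩],
    !![⟨0, 0⟩, ⟨0, 0⟩, ⟨1, 0⟩, ⟨0, 0⟩; ⟨0, 0⟩, ⟨1, 0⟩, ⟨0, 0⟩, ⟨0, 0⟩; ⟨1, 0⟩, ⟨0, 0⟩, ⟨0, 0⟩, ⟨0, 0⟩; ⟨0, 0⟩, ⟨0, 0⟩, ⟨0, 0⟩, ⟨1, 0⟩],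
    !![⟨0, 0⟩, ⟨0, 0⟩, ⟨0, 1⟩, ⟨0, 0⟩; ⟨0, 0⟩, ⟨1, 0⟩, ⟨0, 0⟩, ⟨0, 0⟩; ⟨1, 1⟩, ⟨0, 0⟩, ⟨0, 0⟩, ⟨0, 0⟩; ⟨0, 0⟩, ⟨0, 0⟩, ⟨0, 0⟩, ⟨1, 0⟩],
    !![⟨0, 0⟩, ⟨1, 1⟩, ⟨0, 0⟩, ⟨0, 0⟩; ⟨0, 1⟩, ⟨0, 0⟩, ⟨0, 0⟩, ⟨0, 0⟩; ⟨0, 0⟩, ⟨0, 0⟩, ⟨1, 0⟩, ⟨0, 0⟩; ⟨0, 0⟩, ⟨0, 0⟩, ⟨0, 0⟩, ⟨1, 0⟩],
    !![⟨0, 0⟩, ⟨1, 1⟩, ⟨1, 1⟩, ⟨1, 1⟩; ⟨0, 1⟩, ⟨0, 0⟩, ⟨1, 0⟩, ⟨1, 0⟩; ⟨0, 1⟩, ⟨1, 0⟩, ⟨0, 0⟩, ⟨1, 0⟩; ⟨0, 1⟩, ⟨1, 0⟩, ⟨1, 0⟩, ⟨0, 0⟩],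
    !![⟨0, 0⟩, ⟨1, 1⟩, ⟨1, 1⟩, ⟨1, 0⟩; ⟨0, 1⟩, ⟨0, 0⟩, ⟨1, 0⟩, ⟨0, 1⟩; ⟨0, 1⟩, ⟨1, 0⟩, ⟨0, 0⟩, ⟨0, 1⟩; ⟨1, 0⟩, ⟨1, 1⟩, ⟨1, 1⟩, ⟨0, 0⟩],
    !![⟨0, 0⟩, ⟨1, 1⟩, ⟨1, 1⟩, ⟨0, 1⟩; ⟨0, 1⟩, ⟨0, 0⟩, ⟨1, 0⟩, ⟨1, 1⟩; ⟨0, 1⟩, ⟨1, 0⟩, ⟨0, 0⟩, ⟨1, 1⟩; ⟨1, 1⟩, ⟨0, 1⟩, ⟨0, 1⟩, ⟨0, 0⟩],
    !![⟨0, 0⟩, ⟨1, 1⟩, ⟨1, 0⟩, ⟨1, 1⟩; ⟨0, 1⟩, ⟨0, 0⟩, ⟨0, 1⟩, ⟨1, 0⟩; ⟨1, 0⟩, ⟨1, 1⟩, ⟨0, 0⟩, ⟨1, 1⟩; ⟨0, 1⟩, ⟨1, 0⟩, ⟨0, 1⟩, ⟨0, 0⟩],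
    !![⟨0, 0⟩, ⟨1, 1⟩, ⟨1, 0⟩, ⟨1, 0⟩; ⟨0, 1⟩, ⟨0, 0⟩, ⟨0, 1⟩, ⟨0, 1⟩; ⟨1, 0⟩, ⟨1, 1⟩, ⟨0, 0⟩, ⟨1, 0⟩; ⟨1, 0⟩, ⟨1, 1⟩, ⟨1, 0⟩, ⟨0, 0⟩],
    !![⟨0, 0⟩, ⟨1, 1⟩, ⟨1, 0⟩, ⟨0, 1⟩; ⟨0, 1⟩, ⟨0, 0⟩, ⟨0, 1⟩, ⟨1, 1⟩; ⟨1, 0⟩, ⟨1, 1⟩, ⟨0, 0⟩, ⟨0, 1⟩; ⟨1, 1⟩, ⟨0, 1⟩, ⟨1, 1⟩, ⟨0, 0⟩],
    !![⟨0, 0⟩, ⟨1, 1⟩, ⟨0, 1⟩, ⟨1, 1⟩; ⟨0, 1⟩, ⟨0, 0⟩, ⟨1, 1⟩, ⟨1, 0⟩; ⟨1, 1⟩, ⟨0, 1⟩, ⟨0, 0⟩, ⟨0, 1⟩; ⟨0, 1⟩, ⟨1, 0⟩, ⟨1, 1⟩, ⟨0, 0⟩],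
    !![⟨0, 0⟩, ⟨1, 1⟩, ⟨0, 1⟩, ⟨1, 0⟩; ⟨0, 1⟩, ⟨0, 0⟩, ⟨1, 1⟩, ⟨0, 1⟩; ⟨1, 1⟩, ⟨0, 1⟩, ⟨0, 0⟩, ⟨1, 1⟩; ⟨1, 0⟩, ⟨1, 1⟩, ⟨0, 1⟩, ⟨0, 0⟩],
    !![⟨0, 0⟩, ⟨1, 1⟩, ⟨0, 1⟩, ⟨0, 1⟩; ⟨0, 1⟩, ⟨0, 0⟩, ⟨1, 1⟩, ⟨1, 1⟩; ⟨1, 1⟩, ⟨0, 1⟩, ⟨0, 0⟩, ⟨1, 0⟩; ⟨1, 1⟩, ⟨0, 1⟩, ⟨1, 0⟩, ⟨0, 0⟩],
    !![⟨0, 0⟩, ⟨1, 0⟩, ⟨0, 0⟩, ⟨0, 0⟩; ⟨1, 0⟩, ⟨0, 0⟩, ⟨0, 0⟩, ⟨0, 0⟩; ⟨0, 0⟩, ⟨0, 0⟩, ⟨1, 0⟩, ⟨0, 0⟩; ⟨0, 0⟩, ⟨0, 0⟩, ⟨0, 0⟩, ⟨1, 0⟩],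
    !![⟨0, 0⟩, ⟨1, 0⟩, ⟨1, 1⟩, ⟨1, 1⟩; ⟨1, 0⟩, ⟨0, 0⟩, ⟨1, 1⟩, ⟨1, 1⟩; ⟨0, 1⟩, ⟨0, 1⟩, ⟨0, 0⟩, ⟨1, 0⟩; ⟨0, 1⟩, ⟨0, 1⟩, ⟨1, 0⟩, ⟨0, 0⟩],
    !![⟨0, 0⟩, ⟨1, 0⟩, ⟨1, 1⟩, ⟨1, 0⟩; ⟨1, 0⟩, ⟨0, 0⟩, ⟨1, 1⟩, ⟨1, 0⟩; ⟨0, 1⟩, ⟨0, 1⟩, ⟨0, 0⟩, ⟨0, 1⟩; ⟨1, 0⟩, ⟨1, 0⟩, ⟨1, 1⟩, ⟨0, 0⟩],
    !![⟨0, 0⟩, ⟨1, 0⟩, ⟨1, 1⟩, ⟨0, 1⟩; ⟨1, 0⟩, ⟨0, 0⟩, ⟨1, 1⟩, ⟨0, 1⟩; ⟨0, 1⟩, ⟨0, 1⟩, ⟨0, 0⟩, ⟨1, 1⟩; ⟨1, 1⟩, ⟨1, 1⟩, ⟨0, 1⟩, ⟨0, 0⟩],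
    !![⟨0, 0⟩, ⟨1, 0⟩, ⟨1, 0⟩, ⟨1, 1⟩; ⟨1, 0⟩, ⟨0, 0⟩, ⟨1, 0⟩, ⟨1, 1⟩; ⟨1, 0⟩, ⟨1, 0⟩, ⟨0, 0⟩, ⟨1, 1⟩; ⟨0, 1⟩, ⟨0, 1⟩, ⟨0, 1⟩, ⟨0, 0⟩],
    !![⟨0, 0⟩, ⟨1, 0⟩, ⟨1, 0⟩, ⟨1, 0⟩; ⟨1, 0⟩, ⟨0, 0⟩, ⟨1, 0⟩, ⟨1, 0⟩; ⟨1, 0⟩, ⟨1, 0⟩, ⟨0, 0⟩, ⟨1, 0⟩; ⟨1, 0⟩, ⟨1, 0⟩, ⟨1, 0⟩, ⟨0, 0⟩],
    !![⟨0, 0⟩, ⟨1, 0⟩, ⟨1, 0⟩, ⟨0, 1⟩; ⟨1, 0⟩, ⟨0, 0⟩, ⟨1, 0⟩, ⟨0, 1⟩; ⟨1, 0⟩, ⟨1, 0⟩, ⟨0, 0⟩, ⟨0, 1⟩; ⟨1, 1⟩, ⟨1, 1⟩, ⟨1, 1⟩, ⟨0, 0⟩],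
    !![⟨0, 0⟩, ⟨1, 0⟩, ⟨0, 1⟩, ⟨1, 1⟩; ⟨1, 0⟩, ⟨0, 0⟩, ⟨0, 1⟩, ⟨1, 1⟩; ⟨1, 1⟩, ⟨1, 1⟩, ⟨0, 0⟩, ⟨0, 1⟩; ⟨0, 1⟩, ⟨0, 1⟩, ⟨1, 1⟩, ⟨0, 0⟩],
    !![⟨0, 0⟩, ⟨1, 0⟩, ⟨0, 1⟩, ⟨1, 0⟩; ⟨1, 0⟩, ⟨0, 0⟩, ⟨0, 1⟩, ⟨1, 0⟩; ⟨1, 1⟩, ⟨1, 1⟩, ⟨0, 0⟩, ⟨1, 1⟩; ⟨1, 0⟩, ⟨1, 0⟩, ⟨0, 1⟩, ⟨0, 0⟩],
    !![⟨0, 0⟩, ⟨1, 0⟩, ⟨0, 1⟩, ⟨0, 1⟩; ⟨1, 0⟩, ⟨0, 0⟩, ⟨0, 1⟩, ⟨0, 1⟩; ⟨1, 1⟩, ⟨1, 1⟩, ⟨0, 0⟩, ⟨1, 0⟩; ⟨1, 1⟩, ⟨1, 1⟩, ⟨1, 0⟩, ⟨0, 0⟩],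
    !![⟨0, 0⟩, ⟨0, 1⟩, ⟨0, 0⟩, ⟨0, 0⟩; ⟨1, 1⟩, ⟨0, 0⟩, ⟨0, 0⟩, ⟨0, 0⟩; ⟨0, 0⟩, ⟨0, 0⟩, ⟨1, 0⟩, ⟨0, 0⟩; ⟨0, 0⟩, ⟨0, 0⟩, ⟨0, 0⟩, ⟨1, 0⟩],
    !![⟨0, 0⟩, ⟨0, 1⟩, ⟨1, 1⟩, ⟨1, 1⟩; ⟨1, 1⟩, ⟨0, 0⟩, ⟨0, 1⟩, ⟨0, 1⟩; ⟨0, 1⟩, ⟨1, 1⟩, ⟨0, 0⟩, ⟨1, 0⟩; ⟨0, 1⟩, ⟨1, 1⟩, ⟨1, 0⟩, ⟨0, 0⟩],
    !![⟨0, 0⟩, ⟨0, 1⟩, ⟨1, 1⟩, ⟨1, 0⟩; ⟨1, 1⟩, ⟨0, 0⟩, ⟨0, 1⟩, ⟨1, 1⟩; ⟨0, 1⟩, ⟨1, 1⟩, ⟨0, 0⟩, ⟨0, 1⟩; ⟨1, 0⟩, ⟨0, 1⟩, ⟨1, 1⟩, ⟨0, 0⟩],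
    !![⟨0, 0⟩, ⟨0, 1⟩, ⟨1, 1⟩, ⟨0, 1⟩; ⟨1, 1⟩, ⟨0, 0⟩, ⟨0, 1⟩, ⟨1, 0⟩; ⟨0, 1⟩, ⟨1, 1⟩, ⟨0, 0⟩, ⟨1, 1⟩; ⟨1, 1⟩, ⟨1, 0⟩, ⟨0, 1⟩, ⟨0, 0⟩],
    !![⟨0, 0⟩, ⟨0, 1⟩, ⟨1, 0⟩, ⟨1, 1⟩; ⟨1, 1⟩, ⟨0, 0⟩, ⟨1, 1⟩, ⟨0, 1⟩; ⟨1, 0⟩, ⟨0, 1⟩, ⟨0, 0⟩, ⟨1, 1⟩; ⟨0, 1⟩, ⟨1, 1⟩, ⟨0, 1⟩, ⟨0, 0⟩],
    !![⟨0, 0⟩, ⟨0, 1⟩, ⟨1, 0⟩, ⟨1, 0⟩; ⟨1, 1⟩, ⟨0, 0⟩, ⟨1, 1⟩, ⟨1, 1⟩; ⟨1, 0⟩, ⟨0, 1⟩, ⟨0, 0⟩, ⟨1, 0⟩; ⟨1, 0⟩, ⟨0, 1⟩, ⟨1, 0⟩, ⟨0, 0⟩],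
    !![⟨0, 0⟩, ⟨0, 1⟩, ⟨1, 0⟩, ⟨0, 1⟩; ⟨1, 1⟩, ⟨0, 0⟩, ⟨1, 1⟩, ⟨1, 0⟩; ⟨1, 0⟩, ⟨0, 1⟩, ⟨0, 0⟩, ⟨0, 1⟩; ⟨1, 1⟩, ⟨1, 0⟩, ⟨1, 1⟩, ⟨0, 0⟩],
    !![⟨0, 0⟩, ⟨0, 1⟩, ⟨0, 1⟩, ⟨1, 1⟩; ⟨1, 1⟩, ⟨0, 0⟩, ⟨1, 0⟩, ⟨0, 1⟩; ⟨1, 1⟩, ⟨1, 0⟩, ⟨0, 0⟩, ⟨0, 1⟩; ⟨0, 1⟩, ⟨1, 1⟩, ⟨1, 1⟩, ⟨0, 0⟩],
    !![⟨0, 0⟩, ⟨0, 1⟩, ⟨0, 1⟩, ⟨1, 0⟩; ⟨1, 1⟩, ⟨0, 0⟩, ⟨1, 0⟩, ⟨1, 1⟩; ⟨1, 1⟩, ⟨1, 0⟩, ⟨0, 0⟩, ⟨1, 1⟩; ⟨1, 0⟩, ⟨0, 1⟩, ⟨0, 1⟩, ⟨0, 0⟩],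
    !![⟨0, 0⟩, ⟨0, 1⟩, ⟨0, 1⟩, ⟨0, 1⟩; ⟨1, 1⟩, ⟨0, 0⟩, ⟨1, 0⟩, ⟨1, 0⟩; ⟨1, 1⟩, ⟨1, 0⟩, ⟨0, 0⟩, ⟨1, 0⟩; ⟨1, 1⟩, ⟨1, 0⟩, ⟨1, 0⟩, ⟨0, 0⟩]]

def sMat : Fin 45 → Matrix (Fin 4) (Fin 4) (ZMod 3) :=
  ![!![0, 1, 0, 0; 1, 0, 0, 0; 0, 1, 0, 1; 2, 0, 1, 0],
    !![0, 1, 0, 0; 1, 0, 0, 0; 0, 0, 0, 1; 0, 0, 1, 0],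
    !![0, 1, 0, 0; 1, 0, 0, 0; 0, 2, 0, 1; 1, 0, 1, 0],
    !![1, 0, 0, 0; 2, 2, 0, 0; 0, 0, 1, 2; 0, 0, 0, 2],
    !![1, 0, 0, 0; 2, 2, 0, 0; 0, 1, 1, 2; 2, 0, 0, 2],
    !![1, 0, 0, 0; 2, 2, 0, 0; 0, 2, 1, 2; 1, 0, 0, 2],
    !![1, 1, 0, 0; 0, 2, 0, 0; 0, 0, 1, 0; 0, 0, 1, 2],
    !![1, 1, 0, 0; 0, 2, 0, 0; 0, 1, 1, 0; 2, 0, 1, 2],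
    !![1, 1, 0, 0; 0, 2, 0, 0; 0, 2, 1, 0; 1, 0, 1, 2],
    !![1, 0, 0, 0; 1, 2, 0, 0; 0, 0, 1, 1; 0, 0, 0, 2],
    !![1, 0, 0, 0; 1, 2, 0, 0; 0, 2, 1, 1; 1, 0, 0, 2],
    !![1, 0, 0, 0; 1, 2, 0, 0; 0, 1, 1, 1; 2, 0, 0, 2],
    !![1, 2, 0, 0; 0, 2, 0, 0; 0, 0, 1, 0; 0, 0, 2, 2],
    !![1, 2, 0, 0; 0, 2, 0, 0; 0, 2, 1, 0; 1, 0, 2, 2],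
    !![1, 2, 0, 0; 0, 2, 0, 0; 0, 1, 1, 0; 2, 0, 2, 2],
    !![1, 0, 0, 0; 0, 2, 0, 0; 0, 2, 1, 0; 1, 0, 0, 2],
    !![1, 1, 0, 1; 2, 2, 2, 0; 0, 2, 1, 2; 1, 0, 1, 2],
    !![1, 0, 0, 1; 2, 2, 2, 0; 0, 0, 1, 2; 0, 0, 0, 2],
    !![1, 2, 0, 1; 2, 2, 2, 0; 0, 1, 1, 2; 2, 0, 2, 2],
    !![1, 1, 0, 1; 0, 2, 2, 0; 0, 0, 1, 0; 0, 0, 1, 2],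
    !![1, 0, 0, 1; 0, 2, 2, 0; 0, 0, 1, 0; 0, 0, 0, 2],
    !![1, 2, 0, 1; 0, 2, 2, 0; 0, 0, 1, 0; 0, 0, 2, 2],
    !![1, 1, 0, 1; 1, 2, 2, 0; 0, 1, 1, 1; 2, 0, 1, 2],
    !![1, 0, 0, 1; 1, 2, 2, 0; 0, 0, 1, 1; 0, 0, 0, 2],
    !![1, 2, 0, 1; 1, 2, 2, 0; 0, 2, 1, 1; 1, 0, 2, 2],
    !![1, 0, 0, 0; 0, 2, 0, 0; 0, 0, 1, 0; 0, 0, 0, 2],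
    !![0, 0, 0, 1; 0, 0, 2, 0; 0, 2, 0, 0; 1, 0, 0, 0],
    !![0, 2, 0, 1; 0, 0, 2, 0; 0, 2, 0, 0; 1, 0, 2, 0],
    !![0, 1, 0, 1; 0, 0, 2, 0; 0, 2, 0, 0; 1, 0, 1, 0],
    !![0, 0, 0, 1; 1, 0, 2, 0; 0, 2, 0, 1; 1, 0, 0, 0],
    !![0, 2, 0, 1; 1, 0, 2, 0; 0, 1, 0, 1; 2, 0, 2, 0],
    !![0, 1, 0, 1; 1, 0, 2, 0; 0, 0, 0, 1; 0, 0, 1, 0],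
    !![0, 0, 0, 2; 1, 0, 1, 0; 0, 1, 0, 1; 2, 0, 0, 0],
    !![0, 1, 0, 2; 1, 0, 1, 0; 0, 0, 0, 1; 0, 0, 1, 0],
    !![0, 2, 0, 2; 1, 0, 1, 0; 0, 2, 0, 1; 1, 0, 2, 0],
    !![1, 0, 0, 0; 0, 2, 0, 0; 0, 1, 1, 0; 2, 0, 0, 2],
    !![1, 1, 0, 2; 2, 2, 1, 0; 0, 1, 1, 2; 2, 0, 1, 2],
    !![1, 2, 0, 2; 2, 2, 1, 0; 0, 2, 1, 2; 1, 0, 2, 2],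
    !![1, 0, 0, 2; 2, 2, 1, 0; 0, 0, 1, 2; 0, 0, 0, 2],
    !![1, 1, 0, 2; 1, 2, 1, 0; 0, 2, 1, 1; 1, 0, 1, 2],
    !![1, 2, 0, 2; 1, 2, 1, 0; 0, 1, 1, 1; 2, 0, 2, 2],
    !![1, 0, 0, 2; 1, 2, 1, 0; 0, 0, 1, 1; 0, 0, 0, 2],
    !![1, 1, 0, 2; 0, 2, 1, 0; 0, 0, 1, 0; 0, 0, 1, 2],
    !![1, 2, 0, 2; 0, 2, 1, 0; 0, 0, 1, 0; 0, 0, 2, 2],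
    !![1, 0, 0, 2; 0, 2, 1, 0; 0, 0, 1, 0; 0, 0, 0, 2]]

def perm : Fin 45 → Fin 40 → Fin 40 :=
  ![![1, 0, 2, 8, 11, 5, 6, 9, 3, 7, 10, 4, 12, 18, 21, 15, 16, 19, 13, 17, 20, 14, 26, 27, 25, 24, 22, 23, 32, 33, 31, 30, 28, 29, 38, 39, 37, 36, 34, 35],
    ![1, 0, 2, 3, 6, 9, 4, 7, 10, 5, 8, 11, 12, 13, 16, 19, 14, 17, 20, 15, 18, 21, 25, 26, 27, 22, 23, 24, 31, 32, 33, 28, 29, 30, 37, 38, 39, 34, 35, 36],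
    ![1, 0, 2, 10, 4, 7, 11, 5, 8, 9, 3, 6, 12, 20, 14, 17, 21, 15, 18, 19, 13, 16, 27, 25, 26, 23, 24, 22, 33, 31, 32, 29, 30, 28, 39, 37, 38, 35, 36, 34],
    ![2, 1, 0, 3, 11, 7, 6, 5, 10, 9, 8, 4, 12, 31, 37, 25, 32, 38, 26, 33, 39, 27, 30, 36, 24, 15, 18, 21, 28, 34, 22, 13, 16, 19, 29, 35, 23, 14, 17, 20],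
    ![2, 1, 0, 8, 4, 9, 11, 7, 3, 5, 10, 6, 12, 25, 31, 37, 26, 32, 38, 27, 33, 39, 22, 28, 34, 13, 16, 19, 23, 29, 35, 14, 17, 20, 24, 30, 36, 15, 18, 21],
    ![2, 1, 0, 10, 6, 5, 4, 9, 8, 7, 3, 11, 12, 37, 25, 31, 38, 26, 32, 39, 27, 33, 35, 23, 29, 14, 17, 20, 36, 24, 30, 15, 18, 21, 34, 22, 28, 13, 16, 19],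
    ![0, 2, 1, 3, 4, 5, 11, 9, 10, 7, 8, 6, 12, 28, 29, 30, 34, 35, 36, 22, 23, 24, 19, 20, 21, 33, 39, 27, 13, 14, 15, 31, 37, 25, 16, 17, 18, 32, 38, 26],
    ![0, 2, 1, 10, 11, 9, 6, 7, 8, 5, 3, 4, 12, 22, 23, 24, 28, 29, 30, 34, 35, 36, 13, 14, 15, 25, 31, 37, 16, 17, 18, 26, 32, 38, 19, 20, 21, 27, 33, 39],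
    ![0, 2, 1, 8, 6, 7, 4, 5, 3, 9, 10, 11, 12, 34, 35, 36, 22, 23, 24, 28, 29, 30, 16, 17, 18, 38, 26, 32, 19, 20, 21, 39, 27, 33, 13, 14, 15, 37, 25, 31],
    ![12, 1, 2, 31, 27, 38, 32, 25, 39, 33, 26, 37, 0, 13, 21, 17, 16, 15, 20, 19, 18, 14, 22, 36, 29, 7, 10, 4, 28, 24, 35, 3, 6, 9, 34, 30, 23, 11, 5, 8],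
    ![12, 1, 2, 38, 31, 27, 39, 32, 25, 37, 33, 26, 0, 18, 14, 19, 21, 17, 13, 15, 20, 16, 30, 23, 34, 8, 11, 5, 36, 29, 22, 4, 7, 10, 24, 35, 28, 9, 3, 6],
    ![12, 1, 2, 27, 38, 31, 25, 39, 32, 26, 37, 33, 0, 20, 16, 15, 14, 19, 18, 17, 13, 21, 35, 28, 24, 6, 9, 3, 23, 34, 30, 5, 8, 11, 29, 22, 36, 10, 4, 7],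
    ![0, 12, 2, 28, 29, 30, 24, 22, 23, 35, 36, 34, 1, 13, 14, 15, 21, 19, 20, 17, 18, 16, 7, 8, 6, 25, 39, 32, 3, 4, 5, 31, 27, 38, 11, 9, 10, 37, 33, 26],
    ![0, 12, 2, 35, 36, 34, 28, 29, 30, 24, 22, 23, 1, 20, 21, 19, 16, 17, 18, 15, 13, 14, 10, 11, 9, 33, 26, 37, 6, 7, 8, 39, 32, 25, 5, 3, 4, 27, 38, 31],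
    ![0, 12, 2, 24, 22, 23, 35, 36, 34, 28, 29, 30, 1, 18, 16, 17, 14, 15, 13, 19, 20, 21, 4, 5, 3, 38, 31, 27, 9, 10, 11, 26, 37, 33, 8, 6, 7, 32, 25, 39],
    ![0, 1, 12, 21, 19, 20, 15, 13, 14, 18, 16, 17, 2, 7, 8, 6, 10, 11, 9, 4, 5, 3, 22, 23, 24, 25, 26, 27, 36, 34, 35, 39, 37, 38, 29, 30, 28, 32, 33, 31],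
    ![25, 22, 13, 17, 36, 5, 39, 12, 32, 9, 29, 21, 7, 2, 37, 31, 34, 3, 18, 28, 20, 11, 1, 27, 26, 0, 24, 23, 19, 10, 30, 15, 8, 33, 16, 35, 4, 14, 38, 6],
    ![25, 23, 14, 3, 18, 34, 32, 39, 12, 19, 10, 30, 8, 31, 2, 37, 16, 35, 4, 9, 29, 21, 26, 1, 27, 0, 22, 24, 28, 20, 11, 13, 6, 33, 5, 17, 36, 15, 38, 7],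
    ![25, 24, 15, 35, 4, 16, 12, 32, 39, 28, 20, 11, 6, 37, 31, 2, 5, 17, 36, 19, 10, 30, 27, 26, 1, 0, 23, 22, 9, 29, 21, 14, 7, 33, 34, 3, 18, 13, 38, 8],
    ![26, 22, 16, 3, 29, 15, 20, 36, 8, 37, 12, 33, 10, 28, 14, 5, 2, 38, 32, 34, 6, 21, 1, 25, 27, 23, 0, 24, 13, 4, 30, 31, 18, 11, 19, 35, 7, 9, 17, 39],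
    ![26, 23, 17, 13, 4, 30, 6, 21, 34, 33, 37, 12, 11, 3, 29, 15, 32, 2, 38, 19, 35, 7, 27, 1, 25, 24, 0, 22, 28, 14, 5, 31, 16, 9, 8, 20, 36, 10, 18, 39],
    ![26, 24, 18, 28, 14, 5, 35, 7, 19, 12, 33, 37, 9, 13, 4, 30, 38, 32, 2, 8, 20, 36, 25, 27, 1, 22, 0, 23, 3, 29, 15, 31, 17, 10, 34, 6, 21, 11, 16, 39],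
    ![27, 22, 19, 38, 12, 31, 6, 29, 18, 14, 36, 11, 4, 34, 9, 15, 28, 17, 8, 2, 39, 33, 1, 26, 25, 24, 23, 0, 16, 7, 30, 5, 32, 21, 13, 35, 10, 37, 3, 20],
    ![27, 23, 20, 31, 38, 12, 16, 7, 30, 9, 15, 34, 5, 13, 35, 10, 6, 29, 18, 33, 2, 39, 25, 1, 26, 22, 24, 0, 28, 17, 8, 3, 32, 19, 11, 14, 36, 37, 4, 21],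
    ![27, 24, 21, 12, 31, 38, 28, 17, 8, 35, 10, 13, 3, 11, 14, 36, 16, 7, 30, 39, 33, 2, 26, 25, 1, 23, 22, 0, 6, 29, 18, 4, 32, 20, 34, 9, 15, 37, 5, 19],
    ![0, 1, 12, 13, 14, 15, 16, 17, 18, 19, 20, 21, 2, 3, 4, 5, 6, 7, 8, 9, 10, 11, 35, 36, 34, 38, 39, 37, 28, 29, 30, 31, 32, 33, 24, 22, 23, 27, 25, 26],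
    ![31, 28, 13, 12, 38, 27, 35, 21, 8, 24, 10, 17, 3, 2, 25, 37, 22, 11, 18, 34, 20, 7, 16, 23, 9, 14, 26, 5, 1, 33, 32, 0, 30, 29, 19, 6, 36, 15, 4, 39],
    ![31, 29, 14, 27, 12, 38, 6, 36, 19, 18, 22, 11, 4, 37, 2, 25, 16, 23, 9, 8, 35, 21, 10, 17, 24, 15, 26, 3, 32, 1, 33, 0, 28, 30, 34, 20, 7, 13, 5, 39],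
    ![31, 30, 15, 38, 27, 12, 20, 7, 34, 9, 16, 23, 5, 25, 37, 2, 10, 17, 24, 19, 6, 36, 22, 11, 18, 13, 26, 4, 33, 32, 1, 0, 29, 28, 8, 35, 21, 14, 3, 39],
    ![32, 28, 16, 24, 4, 20, 12, 39, 25, 35, 15, 11, 6, 34, 14, 10, 2, 26, 38, 22, 5, 21, 19, 23, 3, 8, 17, 27, 1, 31, 33, 29, 0, 30, 13, 9, 36, 37, 18, 7],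
    ![32, 29, 17, 21, 22, 5, 25, 12, 39, 9, 36, 13, 7, 11, 35, 15, 38, 2, 26, 19, 23, 3, 4, 20, 24, 6, 18, 27, 33, 1, 31, 30, 0, 28, 34, 14, 10, 37, 16, 8],
    ![32, 30, 18, 3, 19, 23, 39, 25, 12, 14, 10, 34, 8, 13, 9, 36, 26, 38, 2, 4, 20, 24, 22, 5, 21, 7, 16, 27, 31, 33, 1, 28, 0, 29, 11, 35, 15, 37, 17, 6],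
    ![33, 28, 19, 35, 18, 5, 24, 7, 14, 12, 37, 26, 9, 22, 8, 15, 34, 17, 4, 2, 27, 39, 13, 23, 6, 25, 11, 20, 1, 32, 31, 30, 29, 0, 16, 3, 36, 10, 38, 21],
    ![33, 29, 20, 3, 36, 16, 15, 22, 8, 26, 12, 37, 10, 13, 23, 6, 5, 35, 18, 39, 2, 27, 7, 14, 24, 25, 9, 21, 31, 1, 32, 28, 30, 0, 34, 17, 4, 11, 38, 19],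
    ![33, 30, 21, 17, 4, 34, 6, 13, 23, 37, 26, 12, 11, 7, 14, 24, 16, 3, 36, 27, 39, 2, 22, 8, 15, 25, 10, 19, 32, 31, 1, 29, 28, 0, 5, 35, 18, 9, 38, 20],
    ![0, 1, 12, 17, 18, 16, 20, 21, 19, 14, 15, 13, 2, 11, 9, 10, 5, 3, 4, 8, 6, 7, 30, 28, 29, 33, 31, 32, 23, 24, 22, 26, 27, 25, 34, 35, 36, 37, 38, 39],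
    ![37, 34, 13, 21, 4, 23, 6, 17, 30, 26, 33, 12, 11, 2, 31, 25, 28, 7, 18, 22, 20, 3, 19, 5, 24, 15, 9, 27, 16, 29, 8, 14, 32, 10, 1, 39, 38, 0, 36, 35],
    ![37, 35, 14, 24, 19, 5, 28, 7, 18, 12, 26, 33, 9, 25, 2, 31, 16, 29, 8, 4, 23, 21, 22, 20, 3, 13, 10, 27, 6, 17, 30, 15, 32, 11, 38, 1, 39, 0, 34, 36],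
    ![37, 36, 15, 3, 22, 20, 16, 29, 8, 33, 12, 26, 10, 31, 25, 2, 6, 17, 30, 19, 5, 24, 4, 23, 21, 14, 11, 27, 28, 7, 18, 13, 32, 9, 39, 38, 1, 0, 35, 34],
    ![38, 34, 16, 27, 31, 12, 15, 7, 23, 9, 20, 30, 5, 22, 14, 6, 2, 32, 26, 28, 10, 21, 13, 8, 24, 25, 18, 3, 19, 29, 11, 4, 17, 33, 1, 37, 39, 35, 0, 36],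
    ![38, 35, 17, 12, 27, 31, 24, 13, 8, 28, 10, 21, 3, 7, 23, 15, 26, 2, 32, 19, 29, 11, 22, 14, 6, 25, 16, 4, 9, 20, 30, 5, 18, 33, 39, 1, 37, 36, 0, 34],
    ![38, 36, 18, 31, 12, 27, 6, 22, 14, 19, 29, 11, 4, 13, 8, 24, 32, 26, 2, 9, 20, 30, 7, 23, 15, 25, 17, 5, 28, 10, 21, 3, 16, 33, 37, 39, 1, 34, 0, 35],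
    ![39, 34, 19, 3, 14, 30, 25, 32, 12, 18, 10, 23, 8, 28, 4, 15, 22, 17, 9, 2, 33, 27, 16, 11, 24, 6, 26, 21, 13, 29, 5, 31, 7, 20, 1, 38, 37, 36, 35, 0],
    ![39, 35, 20, 28, 4, 15, 12, 25, 32, 24, 16, 11, 6, 13, 29, 5, 10, 23, 18, 27, 2, 33, 22, 17, 9, 7, 26, 19, 3, 14, 30, 31, 8, 21, 37, 1, 38, 34, 36, 0],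
    ![39, 36, 21, 13, 29, 5, 32, 12, 25, 9, 22, 17, 7, 3, 14, 30, 16, 11, 24, 33, 27, 2, 10, 23, 18, 8, 26, 20, 28, 4, 15, 31, 6, 19, 38, 37, 1, 35, 34, 0]]

end Cfsg.Agent.U4Two
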